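import Mathlib

/-!
# (CA) of #8634 for helper60's S3620 (Marggraf): `e = 2`
-/

set_option autoImplicit false

namespace Cfsg.Agent.Helper37.Marg

/-- (CA) -/
theorem e_eq_two (m t e : ℕ) (ht4 : 4 ≤ t) (htm : t < m) (he : 2 ≤ e)
    (h2 : (m + 3 - t) * (e - 1) ≤ m - 1)
    (hT : (t + 1) * e ≤ m + 1 ∨ (m + 2 = t + e ∧ (t + 1) * e ≤ 2 * m + 1)) : e = 2 := by
  obtain ⟨d, rfl⟩ : ∃ d, m = t + 1 + d := ⟨m - (t + 1), by omega⟩
  obtain ⟨k, rfl⟩ : ∃ k, e = k + 2 := ⟨e - 2, by omega⟩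
  have e1 : t + 1 + d + 3 - t = d + 4 := by omega
  have e2 : k + 2 - 1 = k + 1 := by omega
  have e3 : t + 1 + d - 1 = t + d := by omega
  rw [e1, e2, e3] at h2
  rcases hT with hT | ⟨hT1, hT2⟩
  · by_contra hk
    have hk1 : 1 ≤ k := by omega
    have h3 : (d + 4) * 2 ≤ (d + 4) * (k + 1) := Nat.mul_le_mul_left _ (by omega)
    have h4 : (t + 1) * 3 ≤ (t + 1) * (k + 2) := Nat.mul_le_mul_left _ (by omega)
    omega
  · exfalso
    have hk : k = d + 1 := by omega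
    subst hk
    have h5 : (d + 4) * (d + 1 + 1) = d * d + 6 * d + 8 := by ring
    have h6 : (t + 1) * (d + 1 + 2) = t * d + 3 * t + d + 3 := by ring
    rw [h5] at h2
    rw [h6] at hT2
    have h7 : 0 ≤ t * d := Nat.zero_le _
    omega

end Cfsg.Agent.Helper37.Marg
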