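import Mathlib

/-!
# (CBin) of #8634 for helper60's S3620 (Marggraf): the alternating sum is negative
-/

set_option autoImplicit false

namespace Cfsg.Agent.Helper37.Marg

/-- telescoping of an alternating sum of consecutive pairs -/
theorem alt_pair_telescope (c : ℕ → ℤ) (n : ℕ) :
    ∑ j ∈ Finset.range n, (-1 : ℤ) ^ j * (c j + c (j + 1)) = c 0 - (-1 : ℤ) ^ n * c n := by
  induction n with
  | zero => simp
  | succ n ih =>
    rw [Finset.sum_range_succ, ih, pow_succ]
    ring

/-- (CBin) -/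
theorem alt_sum_neg (m t : ℕ) (ht : Even t) (h2 : 2 ≤ t) (htm : t < m) :
    ∑ j ∈ Finset.range t, (-1 : ℤ) ^ j * (j.factorial : ℤ) * ((t - j).factorial : ℤ) *
      ((((m + 1).choose j * m.choose (t - j) : ℕ)) : ℤ) < 0 := by
  -- the falling factorial products
  set c : ℕ → ℤ := fun j =>
    ((m + 1).descFactorial j : ℤ) * (m.descFactorial (t + 1 - j) : ℤ) with hc
  have hterm : ∀ j ∈ Finset.range t,
      ((2 * m + 1 - t : ℕ) : ℤ) * ((-1 : ℤ) ^ j * (j.factorial : ℤ) * ((t - j).factorial : ℤ) *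
        ((((m + 1).choose j * m.choose (t - j) : ℕ)) : ℤ)) =
      (-1 : ℤ) ^ j * (c j + c (j + 1)) := by
    intro j hj
    rw [Finset.mem_range] at hj
    have h1 : ((m + 1).descFactorial j : ℤ) = (j.factorial : ℤ) * ((m + 1).choose j : ℤ) := by
      exact_mod_cast Nat.descFactorial_eq_factorial_mul_choose (m + 1) j
    have h2' : (m.descFactorial (t - j) : ℤ) =
        ((t - j).factorial : ℤ) * (m.choose (t - j) : ℤ) := by
      exact_mod_cast Nat.descFactorial_eq_factorial_mul_choose m (t - j)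
    have h3 : t + 1 - j = (t - j) + 1 := by omega
    have h4 : t + 1 - (j + 1) = t - j := by omega
    have h5 : (m.descFactorial (t + 1 - j) : ℤ) =
        ((m : ℤ) - t + j) * (m.descFactorial (t - j) : ℤ) := by
      rw [h3, Nat.descFactorial_succ]
      push_cast [Nat.cast_sub (by omega : t - j ≤ m), Nat.cast_sub hj.le]
      ring
    have h6 : ((m + 1).descFactorial (j + 1) : ℤ) =
        ((m : ℤ) + 1 - j) * ((m + 1).descFactorial j : ℤ) := by
      rw [Nat.descFactorial_succ]
      push_cast [Nat.cast_sub (by omega : j ≤ m + 1)]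
      ring
    have h7 : ((2 * m + 1 - t : ℕ) : ℤ) = 2 * (m : ℤ) + 1 - t := by
      push_cast [Nat.cast_sub (by omega : t ≤ 2 * m + 1)]
      ring
    simp only [hc]
    rw [h4, h5, h6, h1, h2', h7]
    push_cast
    ring
  have hsum : ((2 * m + 1 - t : ℕ) : ℤ) *
      ∑ j ∈ Finset.range t, (-1 : ℤ) ^ j * (j.factorial : ℤ) * ((t - j).factorial : ℤ) *
        ((((m + 1).choose j * m.choose (t - j) : ℕ)) : ℤ) = c 0 - c t := by
    rw [Finset.mul_sum, Finset.sum_congr rfl hterm, alt_pair_telescope, ht.neg_one_pow, one_mul]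
  -- `c 0 < c t`
  obtain ⟨s, rfl⟩ : ∃ s, t = s + 1 := ⟨t - 1, by omega⟩
  have hc0 : c 0 = ((m : ℤ) - s - 1) * ((m : ℤ) - s) * (m.descFactorial s : ℤ) := by
    simp only [hc]
    rw [Nat.descFactorial_zero, Nat.sub_zero, Nat.descFactorial_succ, Nat.descFactorial_succ]
    push_cast [Nat.cast_sub (by omega : s + 1 ≤ m), Nat.cast_sub (by omega : s ≤ m)]
    ring
  have hct : c (s + 1) = ((m : ℤ) + 1) * (m.descFactorial s : ℤ) * m := by
    simp only [hc]
    have : s + 1 + 1 - (s + 1) = 1 := by omega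
    rw [this, Nat.succ_descFactorial_succ, Nat.descFactorial_one]
    push_cast
    ring
  have hD : (0 : ℤ) < (m.descFactorial s : ℤ) := by
    have : 0 < m.descFactorial s := Nat.descFactorial_pos.2 (by omega : s ≤ m)
    exact_mod_cast this
  have hlt : c 0 - c (s + 1) < 0 := by
    rw [hc0, hct]
    have hm : ((s : ℤ) + 1) < m := by exact_mod_cast htm
    have hs : (0 : ℤ) ≤ s := by positivity
    nlinarith [mul_pos hD (by linarith : (0 : ℤ) < (m : ℤ) - s - 1), mul_pos hD (by linarith : (0:ℤ) < m)]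
  have hpos : (0 : ℤ) < ((2 * m + 1 - (s + 1) : ℕ) : ℤ) := by
    have : 0 < 2 * m + 1 - (s + 1) := by omega
    exact_mod_cast this
  rw [← hsum] at hlt
  by_contra hcon
  push Not at hcon
  have := mul_nonneg hpos.le hcon
  linarith

end Cfsg.Agent.Helper37.Marg
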