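import Mathlib
import Cfsg.Agent.Helper58.Marggraf
import Cfsg.Agent.Helper60.Marg.Defs

/-!
# (CDC1) of #8634 for helper60's S3620 (Marggraf): no block meets `Δ` in exactly `t` points
-/

set_option autoImplicit false
set_option linter.unusedVariables false

namespace Cfsg.Agent.Helper37.Marg

open Cfsg.Agent.Helper60.Marg Cfsg.Agent.Helper58 MulAction

variable {Ω : Type*} [DecidableEq Ω] [Fintype Ω]

/-- (CDC1) -/
theorem stSys_B_t_eq_zero {t : ℕ} {Δ : Finset Ω} (S : StSys Ω t 2 Δ) (ht1 : 1 ≤ t) :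
    S.B t = 0 := by
  unfold StSys.B
  rw [Finset.card_eq_zero, Finset.filter_eq_empty_iff]
  intro Q hQ hcard
  unfold StSys.blocks at hQ
  rw [Finset.mem_image] at hQ
  obtain ⟨X, hX, rfl⟩ := hQ
  rw [Finset.mem_powersetCard] at hX
  have hXc := hX.2
  have h1 := S.eq X (S.Q X ∩ Δ) hXc hcard Finset.inter_subset_left
  have h2 := S.inΔ (S.Q X ∩ Δ) hcard Finset.inter_subset_right
  rw [h1] at h2
  have h3 : S.Q X ∩ Δ = S.Q X := Finset.inter_eq_left.2 h2
  rw [h3] at hcard
  have := S.card X hXc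
  omega

end Cfsg.Agent.Helper37.Marg
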