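import Mathlib
import Cfsg.Agent.Helper58.Marggraf
import Cfsg.Agent.Helper60.Marg.Defs

/-!
# (CDC2) of #8634 for helper60's S3620 (Marggraf): double counting of the pairs
(`t`-set of type `j`, block through it)
-/

set_option autoImplicit false

namespace Cfsg.Agent.Helper37.Marg

open Cfsg.Agent.Helper60.Marg Cfsg.Agent.Helper58 MulAction

variable {Ω : Type*} [DecidableEq Ω]

/-- the number of `t`-subsets of `U` meeting `Δ` in exactly `j` points -/
theorem card_filter_powersetCard_inter (U Δ : Finset Ω) (t j : ℕ) (hj : j ≤ t) :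
    ((U.powersetCard t).filter (fun X => (X ∩ Δ).card = j)).card =
      (U ∩ Δ).card.choose j * (U \ Δ).card.choose (t - j) := by
  rw [← Finset.card_powersetCard, ← Finset.card_powersetCard, ← Finset.card_product]
  refine Finset.card_nbij' (fun X => (X ∩ Δ, X \ Δ)) (fun p => p.1 ∪ p.2) ?_ ?_ ?_ ?_
  · intro X hX
    rw [Finset.mem_coe, Finset.mem_filter, Finset.mem_powersetCard] at hX
    obtain ⟨⟨hXU, hXc⟩, hXj⟩ := hX
    rw [Finset.mem_coe, Finset.mem_product, Finset.mem_powersetCard, Finset.mem_powersetCard]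
    refine ⟨⟨Finset.inter_subset_inter_right hXU, hXj⟩, Finset.sdiff_subset_sdiff hXU le_rfl, ?_⟩
    show (X \ Δ).card = t - j
    have := Finset.card_sdiff_add_card_inter X Δ
    omega
  · rintro ⟨A, B⟩ hp
    rw [Finset.mem_coe, Finset.mem_product, Finset.mem_powersetCard, Finset.mem_powersetCard] at hp
    obtain ⟨⟨hA, hAc⟩, hB, hBc⟩ := hp
    have hAΔ : A ⊆ Δ := fun a ha => (Finset.mem_inter.1 (hA ha)).2
    have hBΔ : ∀ b ∈ B, b ∉ Δ := fun b hb => (Finset.mem_sdiff.1 (hB hb)).2
    have hdisj : Disjoint A B := by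
      rw [Finset.disjoint_left]
      intro a ha hb
      exact hBΔ a hb (hAΔ ha)
    have hinter : (A ∪ B) ∩ Δ = A := by
      ext a
      simp only [Finset.mem_inter, Finset.mem_union]
      constructor
      · rintro ⟨h | h, hΔ'⟩
        · exact h
        · exact absurd hΔ' (hBΔ a h)
      · intro h
        exact ⟨Or.inl h, hAΔ h⟩
    rw [Finset.mem_coe, Finset.mem_filter, Finset.mem_powersetCard]
    refine ⟨⟨?_, ?_⟩, ?_⟩
    · intro a ha
      rcases Finset.mem_union.1 ha with h | h
      · exact (Finset.mem_inter.1 (hA h)).1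
      · exact (Finset.mem_sdiff.1 (hB h)).1
    · show (A ∪ B).card = t
      rw [Finset.card_union_of_disjoint hdisj, hAc, hBc]
      omega
    · show ((A ∪ B) ∩ Δ).card = j
      rw [hinter, hAc]
  · intro X _
    show X ∩ Δ ∪ X \ Δ = X
    ext a
    simp only [Finset.mem_union, Finset.mem_inter, Finset.mem_sdiff]
    tauto
  · rintro ⟨A, B⟩ hp
    rw [Finset.mem_coe, Finset.mem_product, Finset.mem_powersetCard, Finset.mem_powersetCard] at hp
    obtain ⟨⟨hA, hAc⟩, hB, hBc⟩ := hp
    have hAΔ : A ⊆ Δ := fun a ha => (Finset.mem_inter.1 (hA ha)).2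
    have hBΔ : ∀ b ∈ B, b ∉ Δ := fun b hb => (Finset.mem_sdiff.1 (hB hb)).2
    show ((A ∪ B) ∩ Δ, (A ∪ B) \ Δ) = (A, B)
    congr 1
    · ext a
      simp only [Finset.mem_inter, Finset.mem_union]
      constructor
      · rintro ⟨h | h, hΔ'⟩
        · exact h
        · exact absurd hΔ' (hBΔ a h)
      · intro h
        exact ⟨Or.inl h, hAΔ h⟩
    · ext a
      simp only [Finset.mem_sdiff, Finset.mem_union]
      constructor
      · rintro ⟨h | h, hΔ'⟩
        · exact absurd (hAΔ h) hΔ'
        · exact h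
      · intro h
        exact ⟨Or.inr h, hBΔ a h⟩

/-- the binomial evaluation for a block of size `t + 1` -/
theorem choose_mul_choose_eq (t j i : ℕ) (hj : j ≤ t) (hi : i ≤ t + 1) :
    i.choose j * (t + 1 - i).choose (t - j) =
      (if i = j then t + 1 - j else 0) + (if i = j + 1 then j + 1 else 0) := by
  by_cases h1 : i = j
  · subst h1
    rw [if_pos rfl, if_neg (by omega), Nat.choose_self, one_mul, add_zero]
    have : t + 1 - i = (t - i) + 1 := by omega
    rw [this, Nat.choose_succ_self_right]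
  · by_cases h2 : i = j + 1
    · subst h2
      rw [if_neg (by omega), if_pos rfl, Nat.choose_succ_self_right, zero_add]
      have : t + 1 - (j + 1) = t - j := by omega
      rw [this, Nat.choose_self, mul_one]
    · rw [if_neg h1, if_neg h2, add_zero]
      rcases Nat.lt_or_ge i j with h3 | h3
      · rw [Nat.choose_eq_zero_of_lt h3, zero_mul]
      · rw [Nat.choose_eq_zero_of_lt (by omega : t + 1 - i < t - j), mul_zero]

variable [Fintype Ω]

/-- (CDC2) double counting of the pairs (`t`-set of type `j`, block through it) -/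
theorem stSys_count_eq {t m : ℕ} {Δ : Finset Ω} (S : StSys Ω t 2 Δ)
    (hn : Fintype.card Ω = 2 * m + 1) (hΔ : Δ.card = m + 1) (j : ℕ) (hj : j ≤ t) :
    (t + 1 - j) * S.B j + (j + 1) * S.B (j + 1) = (m + 1).choose j * m.choose (t - j) := by
  -- the `t`-sets of type `j`
  set 𝒳 : Finset (Finset Ω) :=
    ((Finset.univ : Finset Ω).powersetCard t).filter (fun X => (X ∩ Δ).card = j) with h𝒳
  have hcard𝒳 : 𝒳.card = (m + 1).choose j * m.choose (t - j) := by
    rw [h𝒳, card_filter_powersetCard_inter _ _ _ _ hj, Finset.univ_inter, hΔ,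
      ← Finset.compl_eq_univ_sdiff, Finset.card_compl, hn, hΔ]
    congr 2
    omega
  -- fibres over the blocks
  have hmaps : ∀ X ∈ 𝒳, S.Q X ∈ S.blocks := by
    intro X hX
    rw [h𝒳, Finset.mem_filter] at hX
    unfold StSys.blocks
    exact Finset.mem_image_of_mem _ hX.1
  have hfib : ∀ Q ∈ S.blocks, (𝒳.filter (fun X => S.Q X = Q)).card =
      (if (Q ∩ Δ).card = j then t + 1 - j else 0) +
        (if (Q ∩ Δ).card = j + 1 then j + 1 else 0) := by
    intro Q hQ
    unfold StSys.blocks at hQ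
    rw [Finset.mem_image] at hQ
    obtain ⟨X₀, hX₀, rfl⟩ := hQ
    rw [Finset.mem_powersetCard] at hX₀
    have hX₀c := hX₀.2
    have hQc : (S.Q X₀).card = t + 1 := by
      have := S.card X₀ hX₀c
      omega
    have hset : 𝒳.filter (fun X => S.Q X = S.Q X₀) =
        ((S.Q X₀).powersetCard t).filter (fun X => (X ∩ Δ).card = j) := by
      ext X
      rw [h𝒳, Finset.mem_filter, Finset.mem_filter, Finset.mem_filter, Finset.mem_powersetCard,
        Finset.mem_powersetCard]
      constructor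
      · rintro ⟨⟨⟨-, hXc⟩, hXj⟩, hQX⟩
        refine ⟨⟨?_, hXc⟩, hXj⟩
        rw [← hQX]
        exact S.sub X hXc
      · rintro ⟨⟨hXQ, hXc⟩, hXj⟩
        exact ⟨⟨⟨Finset.subset_univ _, hXc⟩, hXj⟩, S.eq X₀ X hX₀c hXc hXQ⟩
    rw [hset, card_filter_powersetCard_inter _ _ _ _ hj]
    have h1 : (S.Q X₀ \ Δ).card = t + 1 - (S.Q X₀ ∩ Δ).card := by
      have := Finset.card_sdiff_add_card_inter (S.Q X₀) Δ
      omega
    have h2 : (S.Q X₀ ∩ Δ).card ≤ t + 1 := by
      rw [← hQc]
      exact Finset.card_le_card Finset.inter_subset_left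
    rw [h1]
    exact choose_mul_choose_eq t j _ hj h2
  rw [← hcard𝒳, Finset.card_eq_sum_card_fiberwise hmaps, Finset.sum_congr rfl hfib,
    Finset.sum_add_distrib]
  have e1 : ∀ c k : ℕ, ∑ Q ∈ S.blocks, (if (Q ∩ Δ).card = k then c else 0) = c * S.B k := by
    intro c k
    rw [← Finset.sum_filter, Finset.sum_const, smul_eq_mul, mul_comm]
    rfl
  rw [e1, e1]

end Cfsg.Agent.Helper37.Marg
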