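import Mathlib
import Cfsg.Agent.Helper58.Marggraf
import Cfsg.Agent.Helper60.Marg.Defs

/-!
# (M2) of #8634 for helper60's S3620 (Marggraf): Jordan sets with 2 or 3 points
-/

set_option autoImplicit false

namespace Cfsg.Agent.Helper37.Marg

open Cfsg.Agent.Helper60.Marg Cfsg.Agent.Helper58 MulAction

variable {G : Type*} [Group G] {Ω : Type*} [MulAction G Ω]

/-- an element fixing the complement of `Γ` pointwise maps `Γ` into itself -/
theorem smul_mem_of_fix_compl {Γ : Set Ω} {g : G} (hg : ∀ z ∉ Γ, g • z = z) {x : Ω}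
    (hx : x ∈ Γ) : g • x ∈ Γ := by
  by_contra h
  have h1 := hg _ h
  have h2 : g • x = x := smul_left_cancel g h1
  rw [h2] at h
  exact h hx

/-- (M2) Jordan sets with 2 or 3 points -/
theorem small_of_ncard_le_three {Γ : Set Ω} (hJ : IsJ G Γ) (h : Γ.ncard = 2 ∨ Γ.ncard = 3) :
    ∃ c : G, Small2 Ω c ∨ Small3 Ω c := by
  rcases h with h | h
  · obtain ⟨a, b, hab, rfl⟩ := Set.ncard_eq_two.1 h
    obtain ⟨g, hg, hga⟩ := hJ a (by simp) b (by simp)
    refine ⟨g, Or.inl ⟨a, b, hab, hga, ?_, ?_⟩⟩
    · have hb := smul_mem_of_fix_compl hg (show b ∈ ({a, b} : Set Ω) by simp)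
      rcases hb with hb | hb
      · exact hb
      · exfalso
        have hb' : g • b = b := hb
        exact hab (smul_left_cancel g (hb'.trans hga.symm)).symm
    · intro z hza hzb
      exact hg z (by simp [hza, hzb])
  · obtain ⟨a, b, c, hab, hac, hbc, rfl⟩ := Set.ncard_eq_three.1 h
    obtain ⟨g, hg, hga⟩ := hJ a (by simp) b (by simp)
    have hfix : ∀ z, z ≠ a → z ≠ b → z ≠ c → g • z = z := fun z hza hzb hzc =>
      hg z (by simp [hza, hzb, hzc])
    have hb := smul_mem_of_fix_compl hg (show b ∈ ({a, b, c} : Set Ω) by simp)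
    have hc := smul_mem_of_fix_compl hg (show c ∈ ({a, b, c} : Set Ω) by simp)
    have hgb_ne : g • b ≠ b := by
      intro hb'
      exact hab (smul_left_cancel g (hb'.trans hga.symm)).symm
    have hgc_ne : g • c ≠ b := by
      intro hc'
      exact hac (smul_left_cancel g (hc'.trans hga.symm)).symm
    have hgbc : g • b ≠ g • c := fun h' => hbc (smul_left_cancel g h')
    simp only [Set.mem_insert_iff, Set.mem_singleton_iff] at hb hc
    rcases hb with hb | hb | hb
    · -- `g b = a`: then `g c = c`, a transposition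
      refine ⟨g, Or.inl ⟨a, b, hab, hga, hb, ?_⟩⟩
      intro z hza hzb
      by_cases hzc : z = c
      · subst hzc
        rcases hc with hc | hc | hc
        · exact absurd (hb.trans hc.symm) hgbc
        · exact absurd hc hgc_ne
        · exact hc
      · exact hfix z hza hzb hzc
    · exact absurd hb hgb_ne
    · -- `g b = c`: then `g c = a`, a 3-cycle
      refine ⟨g, Or.inr ⟨a, b, c, hab, hbc, hac, hga, hb, ?_, hfix⟩⟩
      rcases hc with hc | hc | hc
      · exact hc
      · exact absurd hc hgc_ne
      · exact absurd (hb.trans hc.symm) hgbc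

end Cfsg.Agent.Helper37.Marg
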